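import Mathlib.CategoryTheory.Monoidal.Grp

/-!
# Pulling back group objects along a functor bijective on morphisms into the object
-/

set_option autoImplicit false
universe v₁ v₂ u₁ u₂

open CategoryTheory MonoidalCategory CartesianMonoidalCategory MonObj Functor

namespace Groth.Agent.NeronGrp

variable {C : Type u₁} [Category.{v₁} C] [CartesianMonoidalCategory C]
  {D : Type u₂} [Category.{v₂} D] [CartesianMonoidalCategory D] (F : C ⥤ D) [F.Monoidal]
  (P : C → Prop) (X : C) (hX : P X) (h1 : P (𝟙_ C)) (hmul : ∀ A B, P A → P B → P (A ⊗ B))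
  (hb : ∀ Y, P Y → Function.Bijective (fun g : Y ⟶ X => F.map g))

/-- the group structure on `X` induced by that on `F.obj X` -/
@[implicit_reducible]
noncomputable def grpObj [GrpObj (F.obj X)] : GrpObj X where
  one := ((hb _ h1).2 (OplaxMonoidal.η F ≫ η[F.obj X])).choose
  mul := ((hb _ (hmul X X hX hX)).2 (OplaxMonoidal.δ F X X ≫ μ[F.obj X])).choose
  inv := ((hb X hX).2 ι[F.obj X]).choose
  one_mul := by
    have ho := ((hb _ h1).2 (OplaxMonoidal.η F ≫ η[F.obj X])).choose_spec
    have hm := ((hb _ (hmul X X hX hX)).2 (OplaxMonoidal.δ F X X ≫ μ[F.obj X])).choose_spec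
    simp only at ho hm
    refine (hb _ (hmul _ X h1 hX)).1 ?_
    simp [ho, hm, ← OplaxMonoidal.δ_natural_left_assoc]
  mul_one := by
    have ho := ((hb _ h1).2 (OplaxMonoidal.η F ≫ η[F.obj X])).choose_spec
    have hm := ((hb _ (hmul X X hX hX)).2 (OplaxMonoidal.δ F X X ≫ μ[F.obj X])).choose_spec
    simp only at ho hm
    refine (hb _ (hmul X _ hX h1)).1 ?_
    simp [ho, hm, ← OplaxMonoidal.δ_natural_right_assoc]
  mul_assoc := by
    have hm := ((hb _ (hmul X X hX hX)).2 (OplaxMonoidal.δ F X X ≫ μ[F.obj X])).choose_spec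
    simp only at hm
    refine (hb _ (hmul _ X (hmul X X hX hX) hX)).1 ?_
    simp [hm, ← OplaxMonoidal.δ_natural_left_assoc, ← OplaxMonoidal.δ_natural_right_assoc]
  left_inv := by
    have ho := ((hb _ h1).2 (OplaxMonoidal.η F ≫ η[F.obj X])).choose_spec
    have hm := ((hb _ (hmul X X hX hX)).2 (OplaxMonoidal.δ F X X ≫ μ[F.obj X])).choose_spec
    have hi := ((hb X hX).2 ι[F.obj X]).choose_spec
    simp only at ho hm hi
    refine (hb X hX).1 ?_
    simp [hm, hi]
    erw [ho]
    simp [OplaxMonoidal.η_of_cartesianMonoidalCategory]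
  right_inv := by
    have ho := ((hb _ h1).2 (OplaxMonoidal.η F ≫ η[F.obj X])).choose_spec
    have hm := ((hb _ (hmul X X hX hX)).2 (OplaxMonoidal.δ F X X ≫ μ[F.obj X])).choose_spec
    have hi := ((hb X hX).2 ι[F.obj X]).choose_spec
    simp only at ho hm hi
    refine (hb X hX).1 ?_
    simp [hm, hi]
    erw [ho]
    simp [OplaxMonoidal.η_of_cartesianMonoidalCategory]

end Groth.Agent.NeronGrp
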